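import Mathlib

/-!
# Two conjugate permutations of type `p^m` whose common centralizer is a `p'`-group
-/

set_option autoImplicit false

namespace Cfsg.Agent.H178.MeetAlt

open Equiv

variable {p m : ℕ}

/-- `m` cycles of length `p` -/
def sg (p m : ℕ) : Perm (ZMod p × ZMod m) := Equiv.prodCongr (Equiv.addRight 1) (Equiv.refl _)

/-- the permutation of the labels -/
def pi (p m : ℕ) (s : ZMod p) : Perm (ZMod m) :=
  if s = 0 then Equiv.subRight 1 else if s = 1 then Equiv.swap 0 1 else Equiv.refl _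

/-- the conjugating permutation -/
def vv (p m : ℕ) : Perm (ZMod p × ZMod m) := Equiv.prodShear (Equiv.refl _) (pi p m)

theorem sg_apply (a : ZMod p × ZMod m) : sg p m a = (a.1 + 1, a.2) := rfl

theorem sg_pow (n : ℕ) (a : ZMod p × ZMod m) : (sg p m ^ n) a = (a.1 + n, a.2) := by
  induction n with
  | zero => simp
  | succ n ih =>
    rw [pow_succ', Perm.mul_apply, ih, sg_apply]
    simp [add_assoc]

theorem vv_apply (a : ZMod p × ZMod m) : vv p m a = (a.1, pi p m a.1 a.2) := rfl

/-- points in the same cycle -/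
theorem exists_pow [NeZero p] {a b : ZMod p × ZMod m} (h : a.2 = b.2) : ∃ n : ℕ, (sg p m ^ n) a = b := by
  refine ⟨(b.1 - a.1).val, ?_⟩
  rw [sg_pow]
  ext
  · simp
  · exact h

theorem snd_of_comm [NeZero p] {y : Perm (ZMod p × ZMod m)} (hy : y * sg p m = sg p m * y)
    {a b : ZMod p × ZMod m} (h : a.2 = b.2) : (y a).2 = (y b).2 := by
  obtain ⟨n, rfl⟩ := exists_pow h
  have h1 : y * sg p m ^ n = sg p m ^ n * y := (show Commute y (sg p m) from hy).pow_right n
  have h2 : y ((sg p m ^ n) a) = (sg p m ^ n) (y a) := by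
    rw [← Perm.mul_apply, h1, Perm.mul_apply]
  rw [h2, sg_pow]

theorem eq_of_fix [NeZero p] {y : Perm (ZMod p × ZMod m)} (hy : y * sg p m = sg p m * y)
    {a b : ZMod p × ZMod m} (h : a.2 = b.2) (ha : y a = a) : y b = b := by
  obtain ⟨n, rfl⟩ := exists_pow h
  have h1 : y * sg p m ^ n = sg p m ^ n * y := (show Commute y (sg p m) from hy).pow_right n
  have h2 : y ((sg p m ^ n) a) = (sg p m ^ n) (y a) := by
    rw [← Perm.mul_apply, h1, Perm.mul_apply]
  rw [h2, ha]

/-- the second commutation relation, conjugated -/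
theorem comm_conj {y : Perm (ZMod p × ZMod m)} (hy : y * ((vv p m)⁻¹ * sg p m * vv p m) =
    ((vv p m)⁻¹ * sg p m * vv p m) * y) :
    (vv p m * y * (vv p m)⁻¹) * sg p m = sg p m * (vv p m * y * (vv p m)⁻¹) := by
  calc (vv p m * y * (vv p m)⁻¹) * sg p m = vv p m * (y * ((vv p m)⁻¹ * sg p m * vv p m)) * (vv p m)⁻¹ := by group
    _ = vv p m * (((vv p m)⁻¹ * sg p m * vv p m) * y) * (vv p m)⁻¹ := by rw [hy]
    _ = _ := by group

theorem lab_of_comm [NeZero p] {y : Perm (ZMod p × ZMod m)} (hy : y * ((vv p m)⁻¹ * sg p m * vv p m) =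
    ((vv p m)⁻¹ * sg p m * vv p m) * y) {a b : ZMod p × ZMod m} (h : (vv p m a).2 = (vv p m b).2) :
    (vv p m (y a)).2 = (vv p m (y b)).2 := by
  have := snd_of_comm (comm_conj hy) h
  simpa [Perm.mul_apply] using this

theorem eq_of_fix' [NeZero p] {y : Perm (ZMod p × ZMod m)} (hy : y * ((vv p m)⁻¹ * sg p m * vv p m) =
    ((vv p m)⁻¹ * sg p m * vv p m) * y) {a b : ZMod p × ZMod m} (h : (vv p m a).2 = (vv p m b).2)
    (ha : y a = a) : y b = b := by
  have h1 : (vv p m * y * (vv p m)⁻¹) (vv p m a) = vv p m a := by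
    simp [Perm.mul_apply, ha]
  have := eq_of_fix (comm_conj hy) h h1
  simpa [Perm.mul_apply] using this

/-- the class of `a` -/
def Cl (p m : ℕ) [NeZero p] [NeZero m] (a : ZMod p × ZMod m) : Finset (ZMod p × ZMod m) :=
  Finset.univ.filter (fun b => b.2 = a.2 ∧ (vv p m b).2 = (vv p m a).2)

theorem mem_Cl [NeZero p] [NeZero m] {a b : ZMod p × ZMod m} :
    b ∈ Cl p m a ↔ b.2 = a.2 ∧ (vv p m b).2 = (vv p m a).2 := by
  simp [Cl]

theorem card_Cl_le [NeZero p] [NeZero m] {y : Perm (ZMod p × ZMod m)} (hy : y * sg p m = sg p m * y)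
    (hy' : y * ((vv p m)⁻¹ * sg p m * vv p m) = ((vv p m)⁻¹ * sg p m * vv p m) * y) (a : ZMod p × ZMod m) :
    (Cl p m a).card ≤ (Cl p m (y a)).card := by
  apply Finset.card_le_card_of_injOn y
  · intro b hb
    rw [Finset.mem_coe, mem_Cl] at hb ⊢
    exact ⟨snd_of_comm hy hb.1, lab_of_comm hy' hb.2⟩
  · exact y.injective.injOn

theorem inv_comm {G : Type*} [Group G] {y s : G} (h : y * s = s * y) : y⁻¹ * s = s * y⁻¹ :=
  (show Commute y s from h).inv_left

theorem card_Cl [NeZero p] [NeZero m] {y : Perm (ZMod p × ZMod m)} (hy : y * sg p m = sg p m * y)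
    (hy' : y * ((vv p m)⁻¹ * sg p m * vv p m) = ((vv p m)⁻¹ * sg p m * vv p m) * y) (a : ZMod p × ZMod m) :
    (Cl p m (y a)).card = (Cl p m a).card := by
  apply le_antisymm _ (card_Cl_le hy hy' a)
  have := card_Cl_le (inv_comm hy) (inv_comm hy') (y a)
  simpa using this

theorem zmod_nat_ne {k : ℕ} (hk : 5 ≤ k) {a b : ℕ} (ha : a < 5) (hb : b < 5) (h : a ≠ b) :
    (a : ZMod k) ≠ (b : ZMod k) := by
  intro h1
  rw [ZMod.natCast_eq_natCast_iff'] at h1
  rw [Nat.mod_eq_of_lt (by omega), Nat.mod_eq_of_lt (by omega)] at h1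
  exact h h1

section

variable (hp : 5 ≤ p) (hm : 5 ≤ m)
include hp hm

theorem p01 : (0 : ZMod p) ≠ 1 := by exact_mod_cast zmod_nat_ne (k := p) hp (a := 0) (b := 1) (by omega) (by omega) (by omega)

theorem pi_zero (i : ZMod m) : pi p m 0 i = i - 1 := by simp [pi]

theorem pi_one (i : ZMod m) : pi p m 1 i = Equiv.swap 0 1 i := by
  simp [pi, (p01 hp hm).symm]

theorem pi_other {s : ZMod p} (h0 : s ≠ 0) (h1 : s ≠ 1) (i : ZMod m) : pi p m s i = i := by
  simp [pi, h0, h1]

theorem Cl_base [NeZero p] [NeZero m] : Cl p m (0, 1) = {(0, 1), (1, 1)} := by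
  have h01 : (0 : ZMod m) ≠ 1 := p01 hm hp
  ext ⟨s, i⟩
  rw [mem_Cl]
  simp only [vv_apply, Finset.mem_insert, Finset.mem_singleton, Prod.mk.injEq]
  rw [pi_zero hp hm]
  constructor
  · rintro ⟨rfl, h⟩
    by_cases h0 : s = 0
    · exact Or.inl ⟨h0, rfl⟩
    by_cases h1 : s = 1
    · exact Or.inr ⟨h1, rfl⟩
    rw [pi_other hp hm h0 h1, sub_self] at h
    exact absurd h.symm h01
  · rintro (⟨rfl, rfl⟩ | ⟨rfl, rfl⟩)
    · exact ⟨rfl, by rw [pi_zero hp hm]⟩
    · refine ⟨rfl, ?_⟩
      rw [pi_one hp hm, Equiv.swap_apply_right, sub_self]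

/-- the only class with two elements -/
theorem of_card_two [NeZero p] [NeZero m] {a : ZMod p × ZMod m} (h : (Cl p m a).card = 2) :
    a = (0, 1) ∨ a = (1, 1) := by
  have h01 : (0 : ZMod m) ≠ 1 := p01 hm hp
  have h01p : (0 : ZMod p) ≠ 1 := p01 hp hm
  have h12 : (1 : ZMod m) ≠ 2 := by
    exact_mod_cast zmod_nat_ne (k := m) hm (a := 1) (b := 2) (by omega) (by omega) (by omega)
  have h02 : (0 : ZMod m) ≠ 2 := by
    exact_mod_cast zmod_nat_ne (k := m) hm (a := 0) (b := 2) (by omega) (by omega) (by omega)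
  have hq : ∀ a b : ℕ, a < 5 → b < 5 → a ≠ b → (a : ZMod p) ≠ (b : ZMod p) := fun a b => zmod_nat_ne hp
  have q2 : (2 : ZMod p) ≠ 0 ∧ (2 : ZMod p) ≠ 1 := by
    constructor
    · exact_mod_cast hq 2 0 (by omega) (by omega) (by omega)
    · exact_mod_cast hq 2 1 (by omega) (by omega) (by omega)
  have q3 : (3 : ZMod p) ≠ 0 ∧ (3 : ZMod p) ≠ 1 ∧ (3 : ZMod p) ≠ 2 := by
    refine ⟨?_, ?_, ?_⟩
    · exact_mod_cast hq 3 0 (by omega) (by omega) (by omega)
    · exact_mod_cast hq 3 1 (by omega) (by omega) (by omega)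
    · exact_mod_cast hq 3 2 (by omega) (by omega) (by omega)
  have q4 : (4 : ZMod p) ≠ 0 ∧ (4 : ZMod p) ≠ 1 ∧ (4 : ZMod p) ≠ 2 ∧ (4 : ZMod p) ≠ 3 := by
    refine ⟨?_, ?_, ?_, ?_⟩
    · exact_mod_cast hq 4 0 (by omega) (by omega) (by omega)
    · exact_mod_cast hq 4 1 (by omega) (by omega) (by omega)
    · exact_mod_cast hq 4 2 (by omega) (by omega) (by omega)
    · exact_mod_cast hq 4 3 (by omega) (by omega) (by omega)
  obtain ⟨s, i⟩ := a
  -- the classes with label `i`
  have big : pi p m s i = i → False := by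
    intro hi
    have hsub : ({(2, i), (3, i), (4, i)} : Finset (ZMod p × ZMod m)) ⊆ Cl p m (s, i) := by
      intro b hb
      simp only [Finset.mem_insert, Finset.mem_singleton] at hb
      rw [mem_Cl]
      rcases hb with rfl | rfl | rfl
      · exact ⟨rfl, by simp only [vv_apply]; rw [hi, pi_other hp hm q2.1 q2.2]⟩
      · exact ⟨rfl, by simp only [vv_apply]; rw [hi, pi_other hp hm q3.1 q3.2.1]⟩
      · exact ⟨rfl, by simp only [vv_apply]; rw [hi, pi_other hp hm q4.1 q4.2.1]⟩
    have hc := Finset.card_le_card hsub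
    rw [h, Finset.card_insert_of_notMem, Finset.card_insert_of_notMem, Finset.card_singleton] at hc
    · omega
    · simp only [Finset.mem_singleton, Prod.mk.injEq, and_true]
      exact q4.2.2.2.symm
    · simp only [Finset.mem_insert, Finset.mem_singleton, Prod.mk.injEq, and_true, not_or]
      exact ⟨q3.2.2.symm, q4.2.2.1.symm⟩
  have small : (∀ t : ZMod p, pi p m t i = pi p m s i → t = s) → False := by
    intro hi
    have hsub : Cl p m (s, i) ⊆ {(s, i)} := by
      rintro ⟨t, j⟩ hb
      rw [mem_Cl] at hb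
      obtain ⟨rfl, hb⟩ := hb
      simp only [vv_apply] at hb
      rw [Finset.mem_singleton, Prod.mk.injEq]
      exact ⟨hi t hb, rfl⟩
    have hc := Finset.card_le_card hsub
    rw [h, Finset.card_singleton] at hc
    omega
  by_cases h0 : s = 0
  · subst h0
    by_cases h1 : i = 1
    · subst h1
      exact Or.inl rfl
    · exfalso
      apply small
      intro t ht
      by_contra ht0
      rw [pi_zero hp hm] at ht
      by_cases ht1 : t = 1
      · subst ht1
        rw [pi_one hp hm] at ht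
        by_cases hi0 : i = 0
        · subst hi0
          rw [Equiv.swap_apply_left, zero_sub] at ht
          have : (2 : ZMod m) = 0 := by
            have h5 : (1 : ZMod m) + 1 = 0 := by
              nth_rewrite 1 [ht]
              ring
            rw [← h5]; norm_num
          exact h02 this.symm
        · rw [Equiv.swap_apply_of_ne_of_ne hi0 h1] at ht
          exact h01 (by linear_combination -ht)
      · rw [pi_other hp hm ht0 ht1] at ht
        exact h01 (by linear_combination -ht)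
  · by_cases h1 : s = 1
    · subst h1
      by_cases hi1 : i = 1
      · subst hi1
        exact Or.inr rfl
      · exfalso
        by_cases hi0 : i = 0
        · subst hi0
          apply small
          intro t ht
          by_contra ht1
          rw [pi_one hp hm, Equiv.swap_apply_left] at ht
          by_cases ht0 : t = 0
          · subst ht0
            rw [pi_zero hp hm, zero_sub] at ht
            have : (2 : ZMod m) = 0 := by
              have h5 : (1 : ZMod m) + 1 = 0 := by
                nth_rewrite 1 [← ht]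
                ring
              rw [← h5]; norm_num
            exact h02 this.symm
          · rw [pi_other hp hm ht0 ht1] at ht
            exact h01 ht
        · apply big
          rw [pi_one hp hm, Equiv.swap_apply_of_ne_of_ne hi0 hi1]
    · exfalso
      exact big (pi_other hp hm h0 h1 i)

/-- **Rigidity.** -/
theorem rigid [NeZero p] [NeZero m] (hodd : Odd p) {y : Perm (ZMod p × ZMod m)} (hy : y * sg p m = sg p m * y)
    (hy' : y * ((vv p m)⁻¹ * sg p m * vv p m) = ((vv p m)⁻¹ * sg p m * vv p m) * y) {k : ℕ} (hk : y ^ p ^ k = 1) :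
    y = 1 := by
  have h01 : (0 : ZMod m) ≠ 1 := p01 hm hp
  have h01p : (0 : ZMod p) ≠ 1 := p01 hp hm
  have hcard : (Cl p m (0, 1)).card = 2 := by
    rw [Cl_base hp hm, Finset.card_pair]
    intro h
    exact h01p (congrArg Prod.fst h)
  have e0 : y (0, 1) = (0, 1) ∨ y (0, 1) = (1, 1) := of_card_two hp hm (by rw [card_Cl hy hy', hcard])
  have hcard1 : (Cl p m (1, 1)).card = 2 := by
    have : Cl p m (1, 1) = Cl p m (0, 1) := by
      have h5 : ((1, 1) : ZMod p × ZMod m) ∈ Cl p m (0, 1) := by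
        rw [Cl_base hp hm]; simp
      rw [mem_Cl] at h5
      ext b
      rw [mem_Cl, mem_Cl, h5.1, h5.2]
    rw [this, hcard]
  have e1 : y (1, 1) = (0, 1) ∨ y (1, 1) = (1, 1) := of_card_two hp hm (by rw [card_Cl hy hy', hcard1])
  -- `y` fixes `(0,1)`
  have hfix : y (0, 1) = (0, 1) := by
    rcases e0 with h | h
    · exact h
    exfalso
    have h2 : y (1, 1) = (0, 1) := by
      rcases e1 with h3 | h3
      · exact h3
      · exfalso
        have := y.injective (h.trans h3.symm)
        exact h01p (congrArg Prod.fst this)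
    have h3 : (y ^ 2) (0, 1) = (0, 1) := by
      rw [pow_two, Perm.mul_apply, h, h2]
    have h4 : ∀ n : ℕ, ((y ^ 2) ^ n) (0, 1) = (0, 1) := by
      intro n
      induction n with
      | zero => rfl
      | succ n ih => rw [pow_succ, Perm.mul_apply, h3, ih]
    obtain ⟨r, hr⟩ : Odd (p ^ k) := hodd.pow
    have h5 : (y ^ p ^ k) (0, 1) = (1, 1) := by
      rw [hr, pow_add, pow_mul, pow_one, Perm.mul_apply, h]
      have h6 : ∀ n : ℕ, ((y ^ 2) ^ n) (1, 1) = (1, 1) := by
        intro n
        induction n with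
        | zero => rfl
        | succ n ih =>
          rw [pow_succ, Perm.mul_apply, pow_two, Perm.mul_apply, h2, h, ← pow_two, ih]
      exact h6 r
    rw [hk, Perm.one_apply] at h5
    exact h01p (congrArg Prod.fst h5)
  have q2 : (2 : ZMod p) ≠ 0 ∧ (2 : ZMod p) ≠ 1 := by
    constructor
    · exact_mod_cast zmod_nat_ne (k := p) hp (a := 2) (b := 0) (by omega) (by omega) (by omega)
    · exact_mod_cast zmod_nat_ne (k := p) hp (a := 2) (b := 1) (by omega) (by omega) (by omega)
  -- all blocks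
  have hall : ∀ n : ℕ, ∀ s : ZMod p, y (s, 1 + (n : ZMod m)) = (s, 1 + (n : ZMod m)) := by
    intro n
    induction n with
    | zero =>
      intro s
      rw [Nat.cast_zero, add_zero]
      exact eq_of_fix hy (a := (0, 1)) rfl hfix
    | succ n ih =>
      intro s
      have h1 : y (0, 1 + (n : ZMod m) + 1) = (0, 1 + (n : ZMod m) + 1) := by
        refine eq_of_fix' hy' (a := (2, 1 + (n : ZMod m))) ?_ (ih 2)
        simp only [vv_apply]
        rw [pi_zero hp hm, pi_other hp hm q2.1 q2.2]
        ring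
      have h2 : y (s, 1 + (n : ZMod m) + 1) = (s, 1 + (n : ZMod m) + 1) :=
        eq_of_fix hy (a := (0, 1 + (n : ZMod m) + 1)) rfl h1
      rw [Nat.cast_succ, ← add_assoc]
      exact h2
  ext1 ⟨s, i⟩
  have h7 := hall (i - 1).val s
  rw [ZMod.natCast_zmod_val, add_sub_cancel] at h7
  exact h7

end

end Cfsg.Agent.H178.MeetAlt
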