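import Mathlib
import Cfsg.Agent.H178.MeetAlt.Rigid

/-!
# The centralizer of `m` cycles of length `p` has index prime to `p` in the symmetric group of degree `p m + r`
-/

set_option autoImplicit false

namespace Cfsg.Agent.H178.MeetAlt

open Equiv

/-- the set of points -/
abbrev Al (p m r : ℕ) := (ZMod p × ZMod m) ⊕ Fin r

/-- `m` cycles of length `p` and `r` fixed points -/
def sa (p m r : ℕ) : Perm (Al p m r) := Perm.sumCongr (sg p m) 1

/-- the conjugating permutation -/
def va (p m r : ℕ) : Perm (Al p m r) := Perm.sumCongr (vv p m) 1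

/-- a transposition of two cycles -/
def zz (p m : ℕ) : Perm (ZMod p × ZMod m) := Equiv.prodCongrRight (fun _ : ZMod p => Equiv.swap 0 1)

/-- a transposition of two cycles -/
def za (p m r : ℕ) : Perm (Al p m r) := Perm.sumCongr (zz p m) 1

section

variable {p m r : ℕ} [hpf : Fact p.Prime] [NeZero m]

theorem card_Al : Fintype.card (Al p m r) = p * m + r := by
  simp [Al, ZMod.card]

theorem sg_pow_p : sg p m ^ p = 1 := by
  ext1 a
  rw [sg_pow]
  simp

theorem sa_pow_p : sa p m r ^ p = 1 := by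
  have : sa p m r ^ p = Perm.sumCongrHom _ _ ((sg p m, 1) ^ p) := by
    rw [map_pow]; rfl
  rw [this, Prod.pow_mk, sg_pow_p, one_pow]
  exact map_one _

theorem sa_inl (a : ZMod p × ZMod m) : sa p m r (Sum.inl a) = Sum.inl (sg p m a) := rfl

theorem sa_inr (a : Fin r) : sa p m r (Sum.inr a) = Sum.inr a := rfl

theorem sa_ne (a : ZMod p × ZMod m) : sa p m r (Sum.inl a) ≠ Sum.inl a := by
  rw [sa_inl]
  intro h
  have h1 := congrArg Prod.fst (Sum.inl_injective h)
  rw [sg_apply] at h1
  have h2 : (1 : ZMod p) = 0 := by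
    have h3 : a.1 + 1 = a.1 + 0 := by simpa using h1
    exact add_left_cancel h3
  exact one_ne_zero h2

theorem orderOf_sa : orderOf (sa p m r) = p := by
  apply orderOf_eq_prime sa_pow_p
  intro h
  have := sa_ne (p := p) (m := m) (r := r) (0, 0)
  rw [h] at this
  exact this rfl

theorem support_sa : (sa p m r).support.card = p * m := by
  have : (sa p m r).support = Finset.univ.map Function.Embedding.inl := by
    ext x
    rw [Perm.mem_support]
    rcases x with a | a
    · simpa using sa_ne a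
    · simp [sa_inr]
  rw [this, Finset.card_map, Finset.card_univ, Fintype.card_prod, ZMod.card, ZMod.card]

theorem cycleType_sa : (sa p m r).cycleType = Multiset.replicate m p := by
  obtain ⟨n, hn⟩ := Perm.cycleType_prime_order (σ := sa p m r) (by rw [orderOf_sa]; exact hpf.out)
  rw [orderOf_sa] at hn
  have h1 := Perm.sum_cycleType (sa p m r)
  rw [hn, support_sa, Multiset.sum_replicate, smul_eq_mul, mul_comm] at h1
  rw [hn, Nat.eq_of_mul_eq_mul_left hpf.out.pos h1]

theorem card_cent : Nat.card (Subgroup.centralizer {sa p m r}) = r.factorial * p ^ m * m.factorial := by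
  have hm : m ≠ 0 := NeZero.ne m
  rw [Perm.nat_card_centralizer, cycleType_sa, card_Al, Multiset.sum_replicate, Multiset.prod_replicate,
    smul_eq_mul, mul_comm m p, Nat.add_sub_cancel_left, Multiset.toFinset_replicate, if_neg hm,
    Finset.prod_singleton, Multiset.count_replicate_self]

theorem index_cent (hr : r < p) : ¬ p ∣ (Subgroup.centralizer {sa p m r}).index := by
  have h1 := (Subgroup.centralizer {sa p m r}).card_mul_index
  rw [card_cent, Nat.card_perm, Nat.card_eq_fintype_card, card_Al] at h1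
  have hi : (Subgroup.centralizer {sa p m r}).index ≠ 0 := Subgroup.index_ne_zero_of_finite
  have h2 := congrArg (padicValNat p) h1
  have hpm : p ^ m ≠ 0 := pow_ne_zero _ hpf.out.ne_zero
  have hrf : r.factorial ≠ 0 := Nat.factorial_ne_zero r
  have hmf : m.factorial ≠ 0 := Nat.factorial_ne_zero m
  rw [padicValNat.mul (mul_ne_zero (mul_ne_zero hrf hpm) hmf) hi, padicValNat.mul (mul_ne_zero hrf hpm) hmf,
    padicValNat.mul hrf hpm, padicValNat.prime_pow, padicValNat_factorial_mul_add _ hr,
    padicValNat_factorial_mul] at h2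
  intro h
  have h3 := (dvd_iff_padicValNat_ne_zero hi).1 h
  omega

theorem fix_iff (x : Al p m r) : sa p m r x = x ↔ x ∈ Set.range (Sum.inr : Fin r → Al p m r) := by
  rcases x with a | a
  · simpa using sa_ne a
  · simp [sa_inr]

/-- an element commuting with `sa` preserves the two parts -/
theorem exists_sum {y : Perm (Al p m r)} (hy : y * sa p m r = sa p m r * y) :
    ∃ (a : Perm (ZMod p × ZMod m)) (b : Perm (Fin r)), y = Perm.sumCongr a b := by
  have h1 : Set.MapsTo y (Set.range Sum.inr) (Set.range Sum.inr) := by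
    intro x hx
    rw [← fix_iff] at hx ⊢
    rw [← Perm.mul_apply, ← hy, Perm.mul_apply, hx]
  have h2 := Perm.mem_sumCongrHom_range_of_perm_mapsTo_inl ((Perm.perm_mapsTo_inl_iff_mapsTo_inr y).2 h1)
  obtain ⟨⟨a, b⟩, h3⟩ := h2
  exact ⟨a, b, h3.symm⟩

theorem sumCongr_inj {α β : Type*} {a a' : Perm α} {b b' : Perm β}
    (h : Perm.sumCongr a b = Perm.sumCongr a' b') : a = a' ∧ b = b' := by
  have := Perm.sumCongrHom_injective (α := α) (β := β) (a₁ := (a, b)) (a₂ := (a', b')) h
  exact ⟨congrArg Prod.fst this, congrArg Prod.snd this⟩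

theorem sumCongr_pow {α β : Type*} (a : Perm α) (b : Perm β) (n : ℕ) :
    Perm.sumCongr a b ^ n = Perm.sumCongr (a ^ n) (b ^ n) := by
  have : Perm.sumCongr a b ^ n = Perm.sumCongrHom _ _ ((a, b) ^ n) := by
    rw [map_pow]; rfl
  rw [this]; rfl

theorem rigid_sum (hp : 5 ≤ p) (hm : 5 ≤ m) (hr : r < p) {y : Perm (Al p m r)}
    (hy : y * sa p m r = sa p m r * y)
    (hy' : y * ((va p m r)⁻¹ * sa p m r * va p m r) = ((va p m r)⁻¹ * sa p m r * va p m r) * y)
    {k : ℕ} (hk : y ^ p ^ k = 1) : y = 1 := by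
  obtain ⟨a, b, rfl⟩ := exists_sum hy
  have hodd : Odd p := hpf.out.odd_of_ne_two (by omega)
  have e1 : (1 : Perm (Al p m r)) = Perm.sumCongr 1 1 := (Perm.sumCongr_one).symm
  rw [sumCongr_pow, e1] at hk
  obtain ⟨hka, hkb⟩ := sumCongr_inj hk
  have h1 : a * sg p m = sg p m * a := by
    have : Perm.sumCongr (a * sg p m) (b * 1) = Perm.sumCongr (sg p m * a) (1 * b) := by
      rw [← Perm.sumCongr_mul, ← Perm.sumCongr_mul]; exact hy
    exact (sumCongr_inj this).1
  have h2 : a * ((vv p m)⁻¹ * sg p m * vv p m) = ((vv p m)⁻¹ * sg p m * vv p m) * a := by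
    have : Perm.sumCongr (a * ((vv p m)⁻¹ * sg p m * vv p m)) (b * ((1⁻¹) * 1 * 1)) =
        Perm.sumCongr (((vv p m)⁻¹ * sg p m * vv p m) * a) (((1⁻¹) * 1 * 1) * b) := by
      have e2 : (va p m r)⁻¹ * sa p m r * va p m r =
          Perm.sumCongr ((vv p m)⁻¹ * sg p m * vv p m) ((1⁻¹) * 1 * 1) := by
        rw [← Perm.sumCongr_mul, ← Perm.sumCongr_mul, ← Perm.sumCongr_inv]; rfl
      rw [e2] at hy'
      exact (Perm.sumCongr_mul _ _ _ _).symm.trans (hy'.trans (Perm.sumCongr_mul _ _ _ _))
    exact (sumCongr_inj this).1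
  have ha : a = 1 := rigid hp hm hodd h1 h2 hka
  have hb : b = 1 := by
    have h3 : orderOf b ∣ p ^ k := orderOf_dvd_of_pow_eq_one hkb
    have h4 : orderOf b ∣ r.factorial := by
      have := orderOf_dvd_natCard b
      rwa [Nat.card_perm, Nat.card_eq_fintype_card, Fintype.card_fin] at this
    have h5 : (p ^ k).Coprime r.factorial :=
      (hpf.out.coprime_factorial_of_lt hr).pow_left k
    have h6 := Nat.eq_one_of_dvd_coprimes h5 h3 h4
    exact orderOf_eq_one_iff.1 h6
  rw [ha, hb]
  exact Perm.sumCongr_one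

theorem sign_za (hp : 5 ≤ p) (hm : 5 ≤ m) : Perm.sign (za p m r) = -1 := by
  have hodd : Odd p := hpf.out.odd_of_ne_two (by omega)
  rw [za, Perm.sign_sumCongr, Perm.sign_one, mul_one, zz, Perm.sign_prodCongrRight, Finset.prod_const,
    Finset.card_univ, ZMod.card, Perm.sign_swap]
  · exact hodd.neg_one_pow
  · exact_mod_cast zmod_nat_ne (k := m) hm (a := 0) (b := 1) (by omega) (by omega) (by omega)

theorem za_comm : za p m r * sa p m r = sa p m r * za p m r := by
  rw [za, sa, Perm.sumCongr_mul, Perm.sumCongr_mul]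
  congr 1

end

end Cfsg.Agent.H178.MeetAlt
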