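import Mathlib
import Cfsg.Agent.H178.MeetAlt.Cent
import Cfsg.Agent.H903.SylMeet
import Cfsg.Agent.H546.AltSylow
import Cfsg.Agent.H244.A8.OutTop

/-!
# `Meet p (A_n)` for `p ≥ 5`, `n ≥ 5`
-/

set_option autoImplicit false

namespace Cfsg.Agent.H178.MeetAlt

open Equiv Cfsg.Agent.H903.SylMeet

theorem exists_v {p m r : ℕ} [hpf : Fact p.Prime] [NeZero m] (hp : 5 ≤ p) (hm : 5 ≤ m) :
    ∃ x : alternatingGroup (Al p m r), (x : Perm (Al p m r))⁻¹ * sa p m r * (x : Perm (Al p m r)) =
      (va p m r)⁻¹ * sa p m r * va p m r := by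
  rcases Int.units_eq_one_or (Perm.sign (va p m r)) with h | h
  · exact ⟨⟨va p m r, Perm.mem_alternatingGroup.2 h⟩, rfl⟩
  · refine ⟨⟨za p m r * va p m r, Perm.mem_alternatingGroup.2 ?_⟩, ?_⟩
    · rw [Perm.sign_mul, sign_za hp hm, h]; rfl
    · simp only
      have h1 : (za p m r)⁻¹ * sa p m r * za p m r = sa p m r := by
        rw [mul_assoc, ← za_comm, inv_mul_cancel_left]
      calc (za p m r * va p m r)⁻¹ * sa p m r * (za p m r * va p m r)
          = (va p m r)⁻¹ * ((za p m r)⁻¹ * sa p m r * za p m r) * va p m r := by group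
        _ = _ := by rw [h1]

theorem meet_al {p m r : ℕ} [hpf : Fact p.Prime] [NeZero m] (hp : 5 ≤ p) (hm : 5 ≤ m) (hr : r < p)
    (hcard : Nat.card (MulAut (alternatingGroup (Al p m r))) ∣ 2 * Nat.card (alternatingGroup (Al p m r)))
    (hinj : Function.Injective (MulAut.conj : alternatingGroup (Al p m r) →* MulAut (alternatingGroup (Al p m r)))) :
    Meet p (alternatingGroup (Al p m r)) := by
  classical
  have hodd : Odd p := hpf.out.odd_of_ne_two (by omega)
  obtain ⟨Q⟩ : Nonempty (Sylow p (Subgroup.centralizer {sa p m r})) := inferInstance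
  set Q' : Subgroup (Perm (Al p m r)) := (Q : Subgroup (Subgroup.centralizer {sa p m r})).map
    (Subgroup.centralizer {sa p m r}).subtype with hQ'
  have hQp : IsPGroup p Q' := Q.isPGroup'.map _
  have hQc : ∀ q ∈ Q', q * sa p m r = sa p m r * q := by
    rintro q ⟨c, _, rfl⟩
    exact (Subgroup.mem_centralizer_iff.1 c.2 (sa p m r) rfl).symm
  have hQpow : ∀ q ∈ Q', ∃ k : ℕ, q ^ p ^ k = 1 := by
    intro q hq
    obtain ⟨k, hk⟩ := hQp ⟨q, hq⟩
    exact ⟨k, congrArg Subtype.val hk⟩
  have hQA : Q' ≤ alternatingGroup (Al p m r) := by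
    intro q hq
    obtain ⟨k, hk⟩ := hQpow q hq
    rw [Perm.mem_alternatingGroup]
    have h1 : Perm.sign q ^ p ^ k = 1 := by rw [← map_pow, hk, map_one]
    rcases Int.units_eq_one_or (Perm.sign q) with h | h
    · exact h
    · rw [h, (hodd.pow).neg_one_pow] at h1
      exact absurd h1 (by decide)
  have hQi : ¬ p ∣ Q'.index := by
    rw [hQ', Subgroup.index_map_subtype]
    intro h
    rcases hpf.out.dvd_mul.1 h with h | h
    · exact Q.not_dvd_index h
    · exact index_cent hr h
  set P0 : Subgroup (alternatingGroup (Al p m r)) := Q'.subgroupOf (alternatingGroup (Al p m r)) with hP0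
  have hP0p : IsPGroup p P0 := hQp.comap_of_injective _ (Subgroup.subtype_injective _)
  have hP0c : Nat.card P0 = Nat.card Q' := Nat.card_congr (Subgroup.subgroupOfEquivOfLe hQA).toEquiv
  refine meet_of_index (P0.map MulAut.conj) (hP0p.map _) ?_ ?_
  · have h1 : Nat.card (P0.map MulAut.conj) = Nat.card P0 :=
      (Nat.card_congr (P0.equivMapOfInjective _ hinj).toEquiv).symm
    have h2 := (P0.map (MulAut.conj (G := alternatingGroup (Al p m r)))).card_mul_index
    have h3 : 2 * Nat.card (alternatingGroup (Al p m r)) = Nat.card (Perm (Al p m r)) := by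
      have : Nontrivial (Al p m r) := by
        refine ⟨⟨Sum.inl (0, 0), Sum.inl (1, 0), ?_⟩⟩
        intro h
        exact p01 hp hm (congrArg Prod.fst (Sum.inl_injective h))
      exact two_mul_nat_card_alternatingGroup
    rw [h3, ← Q'.card_mul_index, ← h2, h1, hP0c] at hcard
    have h4 : (P0.map (MulAut.conj (G := alternatingGroup (Al p m r)))).index ∣ Q'.index :=
      Nat.dvd_of_mul_dvd_mul_left Nat.card_pos hcard
    exact fun h => hQi (h.trans h4)
  · obtain ⟨x, hx⟩ := exists_v (p := p) (m := m) (r := r) hp hm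
    refine ⟨x, ?_⟩
    rintro y ⟨q, hq, rfl⟩ hy
    rw [← map_mul, ← map_inv, ← map_mul] at hy
    obtain ⟨q', hq', hqq⟩ := hy
    have h1 : q' = x * q * x⁻¹ := hinj hqq
    have h2 : (q : Perm (Al p m r)) ∈ Q' := hq
    have h3 : (q' : Perm (Al p m r)) ∈ Q' := hq'
    obtain ⟨k, hk⟩ := hQpow _ h2
    have h4 := hQc _ h2
    have h5 := hQc _ h3
    have h6 : (q : Perm (Al p m r)) = 1 := by
      apply rigid_sum hp hm hr h4 ?_ hk
      rw [← hx]
      rw [h1] at h5
      simp only [Subgroup.coe_mul, Subgroup.coe_inv] at h5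
      generalize (x : Perm (Al p m r)) = X at h5 ⊢
      generalize (q : Perm (Al p m r)) = q₀ at h5 ⊢
      calc q₀ * (X⁻¹ * sa p m r * X) = X⁻¹ * ((X * q₀ * X⁻¹) * sa p m r) * X := by group
        _ = X⁻¹ * (sa p m r * (X * q₀ * X⁻¹)) * X := by rw [h5]
        _ = _ := by group
    have h7 : q = 1 := Subtype.ext h6
    rw [h7, map_one]

theorem center_alt {n : ℕ} (hn : 5 ≤ n) : Subgroup.center (alternatingGroup (Fin n)) = ⊥ :=
  alternatingGroup.center_eq_bot (by rw [Nat.card_eq_fintype_card, Fintype.card_fin]; omega)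

theorem conj_inj {G : Type*} [Group G] (h : Subgroup.center G = ⊥) :
    Function.Injective (MulAut.conj : G →* MulAut G) := by
  rw [injective_iff_map_eq_one]
  intro g hg
  have h1 : g ∈ Subgroup.center G := by
    rw [Subgroup.mem_center_iff]
    intro a
    have h2 := congrArg (fun f : MulAut G => f a) hg
    simp only [MulAut.conj_apply, MulAut.one_apply] at h2
    exact (mul_inv_eq_iff_eq_mul.1 h2).symm
  rw [h] at h1
  simpa using h1

theorem meet_alt {p n : ℕ} [Fact p.Prime] (hp : 5 ≤ p) (hn : 5 ≤ n) :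
    Cfsg.Agent.H903.SylMeet.Meet p (alternatingGroup (Fin n)) := by
  have hs : IsSimpleGroup (alternatingGroup (Fin n)) :=
    alternatingGroup.isSimpleGroup (by rw [Nat.card_eq_fintype_card, Fintype.card_fin]; exact hn)
  have hc := center_alt hn
  have hnc : ¬ IsMulCommutative (alternatingGroup (Fin n)) := by
    intro h
    have h4 : ∀ a b : alternatingGroup (Fin n), a * b = b * a := fun a b => h.is_comm.comm a b
    obtain ⟨a, ha⟩ := exists_ne (1 : alternatingGroup (Fin n))
    have h5 : a ∈ Subgroup.center (alternatingGroup (Fin n)) :=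
      Subgroup.mem_center_iff.2 fun b => h4 b a
    rw [hc] at h5
    exact ha (by simpa using h5)
  rcases lt_or_ge n (p ^ 2) with hlt | hge
  · obtain ⟨P⟩ : Nonempty (Sylow p (MulAut (alternatingGroup (Fin n)))) := inferInstance
    exact meet_of_comm hnc P (Cfsg.Agent.H546.AltSylow.comm_aut hn (by omega) hlt _ P.isPGroup')
  · have hm : p ≤ n / p := by
      rw [Nat.le_div_iff_mul_le (by omega), ← pow_two]; exact hge
    have hr : n % p < p := Nat.mod_lt _ (by omega)
    have : NeZero (n / p) := ⟨by omega⟩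
    have e : Al p (n / p) (n % p) ≃ Fin n := by
      apply Fintype.equivOfCardEq
      rw [card_Al, Fintype.card_fin, Nat.div_add_mod]
    have f : alternatingGroup (Al p (n / p) (n % p)) ≃* alternatingGroup (Fin n) := e.altCongrHom
    refine Meet.congr f (meet_al hp (by omega) hr ?_ ?_)
    · exact Cfsg.Agent.H244.A8.OutTop.card_aut_congr f (Cfsg.Agent.H244.A8.OutTop.card_aut_alt n (by nlinarith))
    · apply conj_inj
      rw [eq_bot_iff]
      intro a ha
      have h1 : f a ∈ Subgroup.center (alternatingGroup (Fin n)) := by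
        rw [Subgroup.mem_center_iff] at ha ⊢
        intro b
        obtain ⟨c, rfl⟩ := f.surjective b
        rw [← map_mul, ← map_mul, ha c]
      rw [hc, Subgroup.mem_bot] at h1
      rw [Subgroup.mem_bot]
      exact f.injective (h1.trans (map_one f).symm)

end Cfsg.Agent.H178.MeetAlt
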