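import Mathlib
import Cfsg.Agent.H178.MeetAlt.Main

/-!
# `Meet 3 (A_n)` for `n ≥ 5`
-/

set_option autoImplicit false

namespace Cfsg.Agent.H178.MeetAlt

open Equiv Cfsg.Agent.H903.SylMeet

section

variable {m : ℕ} (hm : 3 ≤ m)
include hm

theorem t_ne {a b : ℕ} (ha : a < 3) (hb : b < 3) (h : a ≠ b) : (a : ZMod m) ≠ (b : ZMod m) := by
  intro h1
  rw [ZMod.natCast_eq_natCast_iff', Nat.mod_eq_of_lt (by omega), Nat.mod_eq_of_lt (by omega)] at h1
  exact h h1

theorem t01 : (0 : ZMod m) ≠ 1 := by exact_mod_cast t_ne hm (a := 0) (b := 1) (by omega) (by omega) (by omega)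

theorem t02 : (0 : ZMod m) ≠ 2 := by exact_mod_cast t_ne hm (a := 0) (b := 2) (by omega) (by omega) (by omega)

theorem t12 : (1 : ZMod m) ≠ 2 := by exact_mod_cast t_ne hm (a := 1) (b := 2) (by omega) (by omega) (by omega)

omit hm in
theorem pi3_zero (i : ZMod m) : pi 3 m 0 i = i - 1 := by simp [pi]

omit hm in
theorem pi3_one (i : ZMod m) : pi 3 m 1 i = Equiv.swap 0 1 i := by
  have : (1 : ZMod 3) ≠ 0 := by decide
  simp [pi, this]

omit hm in
theorem pi3_two (i : ZMod m) : pi 3 m 2 i = i := by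
  have h1 : (2 : ZMod 3) ≠ 0 := by decide
  have h2 : (2 : ZMod 3) ≠ 1 := by decide
  simp [pi, h1, h2]

omit hm in
theorem cases3 (s : ZMod 3) : s = 0 ∨ s = 1 ∨ s = 2 := by
  fin_cases s
  · exact Or.inl rfl
  · exact Or.inr (Or.inl rfl)
  · exact Or.inr (Or.inr rfl)

/-- the columns with three classes -/
def ColS [NeZero m] (a : ZMod 3 × ZMod m) : Prop := ∀ b, b.2 = a.2 → (Cl 3 m b).card = 1

/-- the labels with three classes -/
def LabS [NeZero m] (a : ZMod 3 × ZMod m) : Prop := ∀ b, (vv 3 m b).2 = (vv 3 m a).2 → (Cl 3 m b).card = 1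

omit hm in
theorem two_le_card [NeZero m] {a b : ZMod 3 × ZMod m} (hab : a ≠ b) (h1 : b.2 = a.2)
    (h2 : (vv 3 m b).2 = (vv 3 m a).2) : 2 ≤ (Cl 3 m a).card := by
  have h : ({a, b} : Finset (ZMod 3 × ZMod m)) ⊆ Cl 3 m a := by
    intro c hc
    rw [Finset.mem_insert, Finset.mem_singleton] at hc
    rcases hc with rfl | rfl
    · exact mem_Cl.2 ⟨rfl, rfl⟩
    · exact mem_Cl.2 ⟨h1, h2⟩
  have := Finset.card_le_card h
  rwa [Finset.card_pair hab] at this

omit hm in
theorem card_one [NeZero m] {a : ZMod 3 × ZMod m}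
    (h : ∀ s, pi 3 m s a.2 = pi 3 m a.1 a.2 → s = a.1) : (Cl 3 m a).card = 1 := by
  rw [Finset.card_eq_one]
  refine ⟨a, ?_⟩
  ext ⟨s, i⟩
  rw [mem_Cl, Finset.mem_singleton]
  constructor
  · rintro ⟨h1, h2⟩
    simp only at h1
    subst h1
    simp only [vv_apply] at h2
    exact Prod.ext (h s h2) rfl
  · rintro rfl
    exact ⟨rfl, rfl⟩

theorem cl_zero [NeZero m] (s : ZMod 3) : (Cl 3 m (s, 0)).card = 1 := by
  have h01 := t01 hm
  have h02 := t02 hm
  have hm1 : (-1 : ZMod m) ≠ 0 := fun h => h01 (by linear_combination h)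
  have hm2 : (-1 : ZMod m) ≠ 1 := fun h => h02 (by linear_combination h)
  apply card_one
  intro t ht
  simp only at ht ⊢
  rcases cases3 s with rfl | rfl | rfl <;> rcases cases3 t with rfl | rfl | rfl <;>
    simp only [pi3_zero, pi3_one, pi3_two, Equiv.swap_apply_left, zero_sub] at ht
  · rfl
  · exact absurd ht.symm hm2
  · exact absurd ht.symm hm1
  · exact absurd ht hm2
  · rfl
  · exact absurd ht h01
  · exact absurd ht hm1
  · exact absurd ht.symm h01
  · rfl

theorem colS_base [NeZero m] : ColS (m := m) (1, 0) := by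
  rintro ⟨s, i⟩ h
  simp only at h
  subst h
  exact cl_zero hm s

theorem labS_base [NeZero m] : LabS (m := m) (1, 0) := by
  have h01 := t01 hm
  have h12 := t12 hm
  have h02 := t02 hm
  rintro ⟨s, i⟩ h
  simp only [vv_apply] at h
  rw [pi3_one, Equiv.swap_apply_left] at h
  rcases cases3 s with rfl | rfl | rfl
  · rw [pi3_zero] at h
    have hi : i = 2 := by linear_combination h
    subst hi
    apply card_one
    intro t ht
    simp only at ht ⊢
    rcases cases3 t with rfl | rfl | rfl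
    · rfl
    · exfalso
      rw [pi3_zero, pi3_one, Equiv.swap_apply_of_ne_of_ne h02.symm h12.symm] at ht
      exact h01 (by linear_combination -ht)
    · exfalso
      rw [pi3_zero, pi3_two] at ht
      exact h01 (by linear_combination -ht)
  · rw [pi3_one] at h
    have hi : i = 0 := by
      have h3 := (Equiv.swap_apply_eq_iff).1 h
      rwa [Equiv.swap_apply_right] at h3
    subst hi
    exact cl_zero hm 1
  · rw [pi3_two] at h
    subst h
    apply card_one
    intro t ht
    simp only at ht ⊢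
    rcases cases3 t with rfl | rfl | rfl
    · exfalso
      rw [pi3_zero, pi3_two, sub_self] at ht
      exact h01 ht
    · exfalso
      rw [pi3_one, pi3_two, Equiv.swap_apply_right] at ht
      exact h01 ht
    · rfl

theorem unique_split [NeZero m] {a : ZMod 3 × ZMod m} (h1 : ColS a) (h2 : LabS a) : a = (1, 0) := by
  have h01 := t01 hm
  have h12 := t12 hm
  have h02 := t02 hm
  have big : ∀ i : ZMod m, i ≠ 0 → i ≠ 1 → 2 ≤ (Cl 3 m (1, i)).card := by
    intro i hi0 hi1
    refine two_le_card (b := (2, i)) ?_ rfl ?_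
    · intro h
      exact absurd (show (1 : ZMod 3) = 2 from congrArg Prod.fst h) (by decide)
    · simp only [vv_apply]
      rw [pi3_one, pi3_two, Equiv.swap_apply_of_ne_of_ne hi0 hi1]
  have base : 2 ≤ (Cl 3 m (0, 1)).card := by
    refine two_le_card (b := (1, 1)) ?_ rfl ?_
    · intro h
      exact absurd (show (0 : ZMod 3) = 1 from congrArg Prod.fst h) (by decide)
    · simp only [vv_apply]
      rw [pi3_one, pi3_zero, Equiv.swap_apply_right, sub_self]
  obtain ⟨s, i⟩ := a
  have hi : i = 0 := by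
    by_contra hi0
    by_cases hi1 : i = 1
    · subst hi1
      have := h1 (0, 1) rfl
      omega
    · have := h1 (1, i) rfl
      have := big i hi0 hi1
      omega
  subst hi
  rcases cases3 s with rfl | rfl | rfl
  · exfalso
    have hm1 : (-1 : ZMod m) ≠ 0 := fun h => h01 (by linear_combination h)
    have hm2 : (-1 : ZMod m) ≠ 1 := fun h => h02 (by linear_combination h)
    have h3 := h2 (1, -1) (by
      simp only [vv_apply]
      rw [pi3_one, pi3_zero, Equiv.swap_apply_of_ne_of_ne hm1 hm2, zero_sub])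
    have := big (-1) hm1 hm2
    omega
  · rfl
  · exfalso
    have h3 := h2 (0, 1) (by
      simp only [vv_apply]
      rw [pi3_zero, pi3_two, sub_self])
    omega

/-- **Rigidity for three-cycles.** -/
theorem rigid3 [NeZero m] {y : Perm (ZMod 3 × ZMod m)} (hy : y * sg 3 m = sg 3 m * y)
    (hy' : y * ((vv 3 m)⁻¹ * sg 3 m * vv 3 m) = ((vv 3 m)⁻¹ * sg 3 m * vv 3 m) * y) : y = 1 := by
  have hfix : y (1, 0) = (1, 0) := by
    apply unique_split hm
    · intro b hb
      have h1 : (y⁻¹ b).2 = (y⁻¹ (y (1, 0))).2 := snd_of_comm (inv_comm hy) hb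
      rw [show y⁻¹ (y (1, 0)) = (1, 0) from y.symm_apply_apply _] at h1
      have h2 := colS_base hm _ h1
      have h3 := card_Cl hy hy' (y⁻¹ b)
      rw [show y (y⁻¹ b) = b from y.apply_symm_apply _] at h3
      rw [h3, h2]
    · intro b hb
      have h1 : (vv 3 m (y⁻¹ b)).2 = (vv 3 m (y⁻¹ (y (1, 0)))).2 := lab_of_comm (inv_comm hy') hb
      rw [show y⁻¹ (y (1, 0)) = (1, 0) from y.symm_apply_apply _] at h1
      have h2 := labS_base hm _ h1
      have h3 := card_Cl hy hy' (y⁻¹ b)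
      rw [show y (y⁻¹ b) = b from y.apply_symm_apply _] at h3
      rw [h3, h2]
  have hall : ∀ n : ℕ, ∀ s : ZMod 3, y (s, (n : ZMod m)) = (s, (n : ZMod m)) := by
    intro n
    induction n with
    | zero =>
      intro s
      rw [Nat.cast_zero]
      exact eq_of_fix hy (a := (1, 0)) rfl hfix
    | succ n ih =>
      intro s
      have h1 : y (0, (n : ZMod m) + 1) = (0, (n : ZMod m) + 1) := by
        refine eq_of_fix' hy' (a := (2, (n : ZMod m))) ?_ (ih 2)
        simp only [vv_apply]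
        rw [pi3_zero, pi3_two]
        ring
      have h2 : y (s, (n : ZMod m) + 1) = (s, (n : ZMod m) + 1) :=
        eq_of_fix hy (a := (0, (n : ZMod m) + 1)) rfl h1
      rw [Nat.cast_succ]
      exact h2
  ext1 ⟨s, i⟩
  have h7 := hall i.val s
  rw [ZMod.natCast_zmod_val] at h7
  exact h7

end

section

variable {m r : ℕ} [NeZero m]

theorem rigid_sum3 (hm : 3 ≤ m) (hr : r < 3) {y : Perm (Al 3 m r)}
    (hy : y * sa 3 m r = sa 3 m r * y)
    (hy' : y * ((va 3 m r)⁻¹ * sa 3 m r * va 3 m r) = ((va 3 m r)⁻¹ * sa 3 m r * va 3 m r) * y)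
    {k : ℕ} (hk : y ^ 3 ^ k = 1) : y = 1 := by
  have h3 : Fact (Nat.Prime 3) := ⟨Nat.prime_three⟩
  obtain ⟨a, b, rfl⟩ := exists_sum hy
  have e1 : (1 : Perm (Al 3 m r)) = Perm.sumCongr 1 1 := (Perm.sumCongr_one).symm
  rw [sumCongr_pow, e1] at hk
  obtain ⟨hka, hkb⟩ := sumCongr_inj hk
  have h1 : a * sg 3 m = sg 3 m * a := by
    have : Perm.sumCongr (a * sg 3 m) (b * 1) = Perm.sumCongr (sg 3 m * a) (1 * b) := by
      rw [← Perm.sumCongr_mul, ← Perm.sumCongr_mul]; exact hy
    exact (sumCongr_inj this).1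
  have h2 : a * ((vv 3 m)⁻¹ * sg 3 m * vv 3 m) = ((vv 3 m)⁻¹ * sg 3 m * vv 3 m) * a := by
    have : Perm.sumCongr (a * ((vv 3 m)⁻¹ * sg 3 m * vv 3 m)) (b * ((1⁻¹) * 1 * 1)) =
        Perm.sumCongr (((vv 3 m)⁻¹ * sg 3 m * vv 3 m) * a) (((1⁻¹) * 1 * 1) * b) := by
      have e2 : (va 3 m r)⁻¹ * sa 3 m r * va 3 m r =
          Perm.sumCongr ((vv 3 m)⁻¹ * sg 3 m * vv 3 m) ((1⁻¹) * 1 * 1) := by
        rw [← Perm.sumCongr_mul, ← Perm.sumCongr_mul, ← Perm.sumCongr_inv]; rfl
      rw [e2] at hy'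
      exact (Perm.sumCongr_mul _ _ _ _).symm.trans (hy'.trans (Perm.sumCongr_mul _ _ _ _))
    exact (sumCongr_inj this).1
  have ha : a = 1 := rigid3 hm h1 h2
  have hb : b = 1 := by
    have h3' : orderOf b ∣ 3 ^ k := orderOf_dvd_of_pow_eq_one hkb
    have h4 : orderOf b ∣ r.factorial := by
      have := orderOf_dvd_natCard b
      rwa [Nat.card_perm, Nat.card_eq_fintype_card, Fintype.card_fin] at this
    have h5 : (3 ^ k).Coprime r.factorial :=
      (Nat.prime_three.coprime_factorial_of_lt hr).pow_left k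
    have h6 := Nat.eq_one_of_dvd_coprimes h5 h3' h4
    exact orderOf_eq_one_iff.1 h6
  rw [ha, hb]
  exact Perm.sumCongr_one

theorem sign_za3 (hm : 3 ≤ m) : Perm.sign (za 3 m r) = -1 := by
  rw [za, Perm.sign_sumCongr, Perm.sign_one, mul_one, zz, Perm.sign_prodCongrRight, Finset.prod_const,
    Finset.card_univ, ZMod.card, Perm.sign_swap (t01 hm)]
  decide

theorem exists_v3 (hm : 3 ≤ m) :
    ∃ x : alternatingGroup (Al 3 m r), (x : Perm (Al 3 m r))⁻¹ * sa 3 m r * (x : Perm (Al 3 m r)) =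
      (va 3 m r)⁻¹ * sa 3 m r * va 3 m r := by
  have h3 : Fact (Nat.Prime 3) := ⟨Nat.prime_three⟩
  rcases Int.units_eq_one_or (Perm.sign (va 3 m r)) with h | h
  · exact ⟨⟨va 3 m r, Perm.mem_alternatingGroup.2 h⟩, rfl⟩
  · refine ⟨⟨za 3 m r * va 3 m r, Perm.mem_alternatingGroup.2 ?_⟩, ?_⟩
    · rw [Perm.sign_mul, sign_za3 hm, h]; rfl
    · simp only
      have h1 : (za 3 m r)⁻¹ * sa 3 m r * za 3 m r = sa 3 m r := by
        rw [mul_assoc, ← za_comm, inv_mul_cancel_left]
      calc (za 3 m r * va 3 m r)⁻¹ * sa 3 m r * (za 3 m r * va 3 m r)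
          = (va 3 m r)⁻¹ * ((za 3 m r)⁻¹ * sa 3 m r * za 3 m r) * va 3 m r := by group
        _ = _ := by rw [h1]

theorem meet_al3 (hm : 3 ≤ m) (hr : r < 3)
    (hcard : Nat.card (MulAut (alternatingGroup (Al 3 m r))) ∣ 2 * Nat.card (alternatingGroup (Al 3 m r)))
    (hinj : Function.Injective (MulAut.conj : alternatingGroup (Al 3 m r) →* MulAut (alternatingGroup (Al 3 m r)))) :
    Meet 3 (alternatingGroup (Al 3 m r)) := by
  classical
  have hpf : Fact (Nat.Prime 3) := ⟨Nat.prime_three⟩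
  have hodd : Odd 3 := by decide
  obtain ⟨Q⟩ : Nonempty (Sylow 3 (Subgroup.centralizer {sa 3 m r})) := inferInstance
  set Q' : Subgroup (Perm (Al 3 m r)) := (Q : Subgroup (Subgroup.centralizer {sa 3 m r})).map
    (Subgroup.centralizer {sa 3 m r}).subtype with hQ'
  have hQp : IsPGroup 3 Q' := Q.isPGroup'.map _
  have hQc : ∀ q ∈ Q', q * sa 3 m r = sa 3 m r * q := by
    rintro q ⟨c, _, rfl⟩
    exact (Subgroup.mem_centralizer_iff.1 c.2 (sa 3 m r) rfl).symm
  have hQpow : ∀ q ∈ Q', ∃ k : ℕ, q ^ 3 ^ k = 1 := by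
    intro q hq
    obtain ⟨k, hk⟩ := hQp ⟨q, hq⟩
    exact ⟨k, congrArg Subtype.val hk⟩
  have hQA : Q' ≤ alternatingGroup (Al 3 m r) := by
    intro q hq
    obtain ⟨k, hk⟩ := hQpow q hq
    rw [Perm.mem_alternatingGroup]
    have h1 : Perm.sign q ^ 3 ^ k = 1 := by rw [← map_pow, hk, map_one]
    rcases Int.units_eq_one_or (Perm.sign q) with h | h
    · exact h
    · rw [h, (hodd.pow).neg_one_pow] at h1
      exact absurd h1 (by decide)
  have hQi : ¬ 3 ∣ Q'.index := by
    rw [hQ', Subgroup.index_map_subtype]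
    intro h
    rcases hpf.out.dvd_mul.1 h with h | h
    · exact Q.not_dvd_index h
    · exact index_cent hr h
  set P0 : Subgroup (alternatingGroup (Al 3 m r)) := Q'.subgroupOf (alternatingGroup (Al 3 m r)) with hP0
  have hP0p : IsPGroup 3 P0 := hQp.comap_of_injective _ (Subgroup.subtype_injective _)
  have hP0c : Nat.card P0 = Nat.card Q' := Nat.card_congr (Subgroup.subgroupOfEquivOfLe hQA).toEquiv
  refine meet_of_index (P0.map MulAut.conj) (hP0p.map _) ?_ ?_
  · have h1 : Nat.card (P0.map MulAut.conj) = Nat.card P0 :=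
      (Nat.card_congr (P0.equivMapOfInjective _ hinj).toEquiv).symm
    have h2 := (P0.map (MulAut.conj (G := alternatingGroup (Al 3 m r)))).card_mul_index
    have h3 : 2 * Nat.card (alternatingGroup (Al 3 m r)) = Nat.card (Perm (Al 3 m r)) := by
      have : Nontrivial (Al 3 m r) := by
        refine ⟨⟨Sum.inl (0, 0), Sum.inl (1, 0), ?_⟩⟩
        intro h
        exact zero_ne_one (show (0 : ZMod 3) = 1 from congrArg Prod.fst (Sum.inl_injective h))
      exact two_mul_nat_card_alternatingGroup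
    rw [h3, ← Q'.card_mul_index, ← h2, h1, hP0c] at hcard
    have h4 : (P0.map (MulAut.conj (G := alternatingGroup (Al 3 m r)))).index ∣ Q'.index :=
      Nat.dvd_of_mul_dvd_mul_left Nat.card_pos hcard
    exact fun h => hQi (h.trans h4)
  · obtain ⟨x, hx⟩ := exists_v3 (m := m) (r := r) hm
    refine ⟨x, ?_⟩
    rintro y ⟨q, hq, rfl⟩ hy
    rw [← map_mul, ← map_inv, ← map_mul] at hy
    obtain ⟨q', hq', hqq⟩ := hy
    have h1 : q' = x * q * x⁻¹ := hinj hqq
    have h2 : (q : Perm (Al 3 m r)) ∈ Q' := hq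
    have h3 : (q' : Perm (Al 3 m r)) ∈ Q' := hq'
    obtain ⟨k, hk⟩ := hQpow _ h2
    have h4 := hQc _ h2
    have h5 := hQc _ h3
    have h6 : (q : Perm (Al 3 m r)) = 1 := by
      apply rigid_sum3 hm hr h4 ?_ hk
      rw [← hx]
      rw [h1] at h5
      simp only [Subgroup.coe_mul, Subgroup.coe_inv] at h5
      generalize (x : Perm (Al 3 m r)) = X at h5 ⊢
      generalize (q : Perm (Al 3 m r)) = q₀ at h5 ⊢
      calc q₀ * (X⁻¹ * sa 3 m r * X) = X⁻¹ * ((X * q₀ * X⁻¹) * sa 3 m r) * X := by group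
        _ = X⁻¹ * (sa 3 m r * (X * q₀ * X⁻¹)) * X := by rw [h5]
        _ = _ := by group
    have h7 : q = 1 := Subtype.ext h6
    rw [h7, map_one]

end

/-- **`Meet 3 (A_n)`.** -/
theorem meet3_alt {n : ℕ} (hn : 5 ≤ n) : Cfsg.Agent.H903.SylMeet.Meet 3 (alternatingGroup (Fin n)) := by
  have h3 : Fact (Nat.Prime 3) := ⟨Nat.prime_three⟩
  have hs : IsSimpleGroup (alternatingGroup (Fin n)) :=
    alternatingGroup.isSimpleGroup (by rw [Nat.card_eq_fintype_card, Fintype.card_fin]; exact hn)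
  have hc := center_alt hn
  have hnc : ¬ IsMulCommutative (alternatingGroup (Fin n)) := by
    intro h
    have h4 : ∀ a b : alternatingGroup (Fin n), a * b = b * a := fun a b => h.is_comm.comm a b
    obtain ⟨a, ha⟩ := exists_ne (1 : alternatingGroup (Fin n))
    have h5 : a ∈ Subgroup.center (alternatingGroup (Fin n)) :=
      Subgroup.mem_center_iff.2 fun b => h4 b a
    rw [hc] at h5
    exact ha (by simpa using h5)
  rcases lt_or_ge n (3 ^ 2) with hlt | hge
  · obtain ⟨P⟩ : Nonempty (Sylow 3 (MulAut (alternatingGroup (Fin n)))) := inferInstance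
    exact meet_of_comm hnc P (Cfsg.Agent.H546.AltSylow.comm_aut hn (by omega) hlt _ P.isPGroup')
  · have hm : 3 ≤ n / 3 := by
      rw [Nat.le_div_iff_mul_le (by omega), ← pow_two]; exact hge
    have hr : n % 3 < 3 := Nat.mod_lt _ (by omega)
    have : NeZero (n / 3) := ⟨by omega⟩
    have e : Al 3 (n / 3) (n % 3) ≃ Fin n := by
      apply Fintype.equivOfCardEq
      rw [card_Al, Fintype.card_fin, Nat.div_add_mod]
    have f : alternatingGroup (Al 3 (n / 3) (n % 3)) ≃* alternatingGroup (Fin n) := e.altCongrHom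
    refine Meet.congr f (meet_al3 hm hr ?_ ?_)
    · exact Cfsg.Agent.H244.A8.OutTop.card_aut_congr f (Cfsg.Agent.H244.A8.OutTop.card_aut_alt n (by omega))
    · apply conj_inj
      rw [eq_bot_iff]
      intro a ha
      have h1 : f a ∈ Subgroup.center (alternatingGroup (Fin n)) := by
        rw [Subgroup.mem_center_iff] at ha ⊢
        intro b
        obtain ⟨c, rfl⟩ := f.surjective b
        rw [← map_mul, ← map_mul, ha c]
      rw [hc, Subgroup.mem_bot] at h1
      rw [Subgroup.mem_bot]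
      exact f.injective (h1.trans (map_one f).symm)

end Cfsg.Agent.H178.MeetAlt
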